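import Cfsg.Agent.MinSimple.BTwoMod
import Cfsg.Agent.OddCyclic.T1Defs

/-!
# (B-a) of S0342: the module `M = V₁/⟨z⟩` in the class of groups with cyclic odd Sylow subgroups

`Lin f T A H D l`: the finite group `Γ` (`= C_G(z)/C(M)`) acts faithfully on the elementary abelian 2-group `M`,
`f` is the commutator form, `H = l^⊥`, `D = (V₁ ∩ V₂)/⟨z⟩`, `T` a Sylow 2-subgroup of `Γ`, `A ⊴ T` the image of `W₂`.
(blueprints/S0342-Ba-helper208.md, section 0.)
-/

set_option autoImplicit false

namespace Cfsg.Agent.OddCyclic.BTwoAdd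

open Subgroup Cfsg.Agent.OddCyclic.T1Defs Cfsg.Agent.MinSimple

variable {M : Type*} [AddCommGroup M] {Γ : Type*} [Group Γ] [DistribMulAction Γ M]

/-- The module `M` for `Γ`. -/
structure Lin (f : M → M → ZMod 2) (T A : Subgroup Γ) (H D : AddSubgroup M) (l : M) : Prop extends
    BTwoMod.Data A H D l where
  add_right' : ∀ w x y, f w (x + y) = f w x + f w y
  symm : ∀ x y, f x y = f y x
  self : ∀ x, f x x = 0
  finv : ∀ (g : Γ) (x y : M), f (g • x) (g • y) = f x y
  mem_H : ∀ x, x ∈ H ↔ f x l = 0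
  T_two : IsPGroup 2 T
  A_le : A ≤ T
  T_norm : T ≤ normalizer (A : Set Γ)
  /-- (f4) -/
  fixN : ∀ g ∈ normalizer (T : Set Γ), g • l = l
  faith : ∀ g : Γ, (∀ x : M, g • x = x) → g = 1
  gen : ∀ N : AddSubgroup M, l ∈ N → (∀ g : Γ, ∀ x ∈ N, g • x ∈ N) → N = ⊤
  o2 : ∀ N : Subgroup Γ, N.Normal → IsPGroup 2 N → N = ⊥
  /-- (f3) -/
  stab3 : ∀ g : Γ, orderOf g = 3 → g • l ≠ l
  /-- (f2) -/
  radD : ∀ d ∈ D, (∀ x, f d x = 0) → d = 0
  /-- (f2) -/
  radA : ∀ x, (∀ x', f x x' = 0) → ∀ a ∈ A, a • x = x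
  card_H : Nat.card H = Nat.card D * Nat.card A
  card_D : Nat.card D ≤ 2 * Nat.card A
  /-- (f6) -/
  four : 4 ≤ Nat.card A
  cyc : OddCyc Γ

namespace Lin

variable {f : M → M → ZMod 2} {T A : Subgroup Γ} {H D : AddSubgroup M} {l : M} (h : Lin f T A H D l)
include h

theorem add_left' (w x y : M) : f (x + y) w = f x w + f y w := by
  rw [h.symm, h.add_right', h.symm w x, h.symm w y]

theorem zero_right (w : M) : f w 0 = 0 := by
  have := h.add_right' w 0 0
  rw [add_zero] at this
  exact left_eq_add.1 this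

theorem zero_left (w : M) : f 0 w = 0 := by rw [h.symm, h.zero_right]

theorem l_fixT {g : Γ} (hg : g ∈ T) : g • l = l := h.fixN g (le_normalizer hg)

/-- the form vanishes on a `Γ`-invariant set contained in `H` -/
theorem rad_of_le {x : M} (hx : ∀ g : Γ, g • x ∈ H) (x' : M) : f x x' = 0 := by
  let N : AddSubgroup M :=
    { carrier := {v | ∀ g : Γ, f (g • x) v = 0}
      zero_mem' := fun g => h.zero_right _
      add_mem' := fun {a b} ha hb g => by rw [h.add_right', ha g, hb g, add_zero]
      neg_mem' := fun {a} ha g => by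
        have h1 : -a = a := neg_eq_of_add_eq_zero_left (h.two a)
        rw [h1]; exact ha g }
  have h1 : l ∈ N := fun g => (h.mem_H _).1 (hx g)
  have h2 : N = ⊤ := by
    refine h.gen N h1 fun g v hv k => ?_
    have h3 := hv (g⁻¹ * k)
    rw [← h.finv g] at h3
    rwa [← mul_smul, mul_inv_cancel_left] at h3
  have h3 : x' ∈ N := by rw [h2]; trivial
  have h4 := h3 1
  rwa [one_smul] at h4

/-- `[H,A] ≠ 1` -/
theorem not_cent [Finite M] [Finite Γ] : ¬ ∀ x ∈ H, ∀ a ∈ A, a • x = x := by
  intro hc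
  obtain ⟨x, hx⟩ := h.H_ne
  have hzx : ∀ c : ZMod 2, c ≠ 0 → c = 1 := by decide
  have hfx : f x l = 1 := hzx _ fun h1 => hx ((h.mem_H x).2 h1)
  -- the commutator with `x` is in `rad` or `rad + l`
  have key : ∀ a ∈ A, (∀ w, f (a • x + x) w = 0) ∨ ∀ w, f (a • x + x) w = f l w := by
    intro a ha
    have h1 : ∀ w ∈ H, f (a • x + x) w = 0 := by
      intro w hw
      have h2 := h.finv a x w
      rw [hc w hw a ha] at h2
      rw [h.add_left', h2]
      have : ∀ c : ZMod 2, c + c = 0 := by decide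
      exact this _
    have h2 : ∀ w, w ∉ H → f (a • x + x) w = f (a • x + x) x := by
      intro w hw
      have h3 := h1 _ (h.H_two w x hw hx)
      rw [h.add_right'] at h3
      have : ∀ c d : ZMod 2, c + d = 0 → c = d := by decide
      exact this _ _ h3
    have h4 : ∀ w ∈ H, f l w = 0 := fun w hw => by rw [h.symm]; exact (h.mem_H w).1 hw
    have h5 : ∀ w, w ∉ H → f l w = 1 := fun w hw => hzx _ fun h6 => hw ((h.mem_H w).2 (by rw [h.symm]; exact h6))
    by_cases h6 : f (a • x + x) x = 0
    · left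
      intro w
      by_cases hw : w ∈ H
      · exact h1 w hw
      · rw [h2 w hw, h6]
    · right
      intro w
      by_cases hw : w ∈ H
      · rw [h1 w hw, h4 w hw]
      · rw [h2 w hw, h5 w hw, hzx _ h6]
  -- an element `≠ 1` with commutator in `rad`
  obtain ⟨a, ha, ha1, hr⟩ : ∃ a ∈ A, a ≠ 1 ∧ ∀ w, f (a • x + x) w = 0 := by
    have h4 := h.four
    obtain ⟨a, ha, ha1⟩ : ∃ a ∈ A, a ≠ 1 := by
      by_contra hcon
      push Not at hcon
      have : A = ⊥ := (eq_bot_iff_forall A).2 hcon
      rw [this, card_bot] at h4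
      omega
    obtain ⟨b, hb, hb1, hba⟩ : ∃ b ∈ A, b ≠ 1 ∧ b ≠ a := by
      by_contra hcon
      push Not at hcon
      have h5 : (A : Set Γ) ⊆ {1, a} := by
        intro b hb
        by_cases hb1 : b = 1
        · exact Or.inl hb1
        · exact Or.inr (hcon b hb hb1)
      have h6 := Set.ncard_le_ncard h5 (Set.toFinite _)
      have h7 : (A : Set Γ).ncard = Nat.card A := rfl
      have h8 := Set.ncard_insert_le (1 : Γ) {a}
      rw [Set.ncard_singleton] at h8
      omega
    rcases key a ha with h5 | h5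
    · exact ⟨a, ha, ha1, h5⟩
    rcases key b hb with h6 | h6
    · exact ⟨b, hb, hb1, h6⟩
    refine ⟨a * b, A.mul_mem ha hb, ?_, ?_⟩
    · intro h7
      apply hba
      have h8 : a⁻¹ = a := inv_eq_of_mul_eq_one_left (h.inv a ha)
      rw [← h8]
      exact (inv_eq_of_mul_eq_one_right h7).symm
    · intro w
      have h7 : (a * b) • x + x = (a • x + x) + (b • x + x) := by
        have h8 := hc _ (h.hb1 x b hb) a ha
        rw [smul_add] at h8
        have h9 : a • b • x = (b • x + x) + a • x := by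
          rw [← h8, h.add_right]
        rw [mul_smul, h9]
        abel
      rw [h7, h.add_left', h5, h6]
      have : ∀ c : ZMod 2, c + c = 0 := by decide
      exact this _
  -- the normal 2-subgroup
  let N : Subgroup Γ :=
    { carrier := {g | (∀ w w', f (g • w + w) w' = 0) ∧ ∀ w, (∀ w', f w w' = 0) → g • w = w}
      one_mem' := ⟨fun w w' => by rw [one_smul, h.two, h.zero_left], fun w _ => one_smul _ w⟩
      mul_mem' := by
        rintro g k ⟨hg1, hg2⟩ ⟨hk1, hk2⟩
        refine ⟨fun w w' => ?_, fun w hw => ?_⟩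
        · have h8 : g • (k • w + w) = k • w + w := hg2 _ (hk1 w)
          have h9 : (g * k) • w + w = (k • w + w) + (g • w + w) := by
            rw [smul_add] at h8
            have h10 : g • k • w = (k • w + w) + g • w := by rw [← h8, h.add_right]
            rw [mul_smul, h10]
            abel
          rw [h9, h.add_left', hk1, hg1, add_zero]
        · rw [mul_smul, hk2 w hw, hg2 w hw]
      inv_mem' := by
        rintro g ⟨hg1, hg2⟩
        refine ⟨fun w w' => ?_, fun w hw => ?_⟩
        · have h8 := hg1 (g⁻¹ • w) w'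
          rwa [smul_inv_smul, add_comm] at h8
        · rw [inv_smul_eq_iff, hg2 w hw] }
  have hN : N.Normal := by
    refine ⟨fun g hg k => ⟨fun w w' => ?_, fun w hw => ?_⟩⟩
    · have h8 := hg.1 (k⁻¹ • w) (k⁻¹ • w')
      rw [← h.finv k, smul_inv_smul, smul_add, smul_inv_smul, ← mul_smul, ← mul_smul] at h8
      exact h8
    · have h8 : g • (k⁻¹ • w) = k⁻¹ • w := by
        apply hg.2
        intro w'
        rw [← h.finv k, smul_inv_smul]
        exact hw _
      rw [mul_smul, mul_smul, h8, smul_inv_smul]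
  have hN2 : IsPGroup 2 N := by
    rintro ⟨g, hg⟩
    refine ⟨1, ?_⟩
    rw [pow_one, pow_two]
    apply Subtype.ext
    apply h.faith
    intro w
    change (g * g) • w = w
    have h8 : g • (g • w + w) = g • w + w := hg.2 _ (hg.1 w)
    rw [smul_add, add_comm (g • w) w] at h8
    rw [mul_smul]
    exact add_right_cancel h8
  have h9 := h.o2 N hN hN2
  apply ha1
  have h10 : a ∈ N := by
    refine ⟨fun w w' => ?_, fun w hw => ?_⟩
    · by_cases hwH : w ∈ H
      · rw [hc w hwH a ha, h.two, h.zero_left]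
      · have h11 := hc _ (h.H_two w x hwH hx) a ha
        have h12 : a • w + w = a • x + x := by
          have h13 : a • w = (w + x) + a • x := by
            rw [← h11, smul_add, h.add_right]
          rw [h13]
          have : w + x + a • x + w = (a • x + x) + (w + w) := by abel
          rw [this, h.two, add_zero]
        rw [h12, hr]
    · exact hc w ((h.mem_H w).2 (hw l)) a ha
  rw [h9, mem_bot] at h10
  exact h10

/-- (f7): a subgroup containing all commutators `[x,a]` contains `l` -/
theorem l_mem_of_comm [Finite M] [Finite Γ] {N : AddSubgroup M} (hN : ∀ a ∈ A, ∀ x, a • x + x ∈ N) : l ∈ N := by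
  have h1 := h.not_cent
  push Not at h1
  obtain ⟨x, hx, a, ha, hax⟩ := h1
  have h2 : a • x + x ≠ 0 := fun h3 => hax (h.eq_of_add h3)
  have h3 := h.hb2 x hx a ha
  by_cases h4 : ∀ w ∈ A, w • (a • x + x) = a • x + x
  · rcases h.hd _ h3 h4 with h5 | h5
    · exact absurd h5 h2
    · rw [← h5]; exact hN a ha x
  · push Not at h4
    obtain ⟨w, hw, hww⟩ := h4
    rcases h.hb3 _ h3 w hw with h5 | h5
    · exact absurd (h.eq_of_add h5) hww
    · rw [← h5]; exact hN w hw _

end Lin

end Cfsg.Agent.OddCyclic.BTwoAdd
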