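import Cfsg.Agent.OddCyclic.BTwoAdd.Defs

/-!
# (1.1): normal subgroups of odd prime order of `Γ` act fixed point freely on `M`
-/

set_option autoImplicit false

namespace Cfsg.Agent.OddCyclic.BTwoAdd

open Subgroup Cfsg.Agent.OddCyclic.T1Defs Cfsg.Agent.MinSimple Cfsg.Agent.MinSimple.BTwoMod

variable {M : Type*} [AddCommGroup M] {Γ : Type*} [Group Γ] [DistribMulAction Γ M]

theorem E_split (y : Γ) (k : ℕ) (m : M) :
    ∃ n, E y (2 * k + 1) m = m + (y • n + n) := by
  refine ⟨∑ i ∈ Finset.range k, y ^ (2 * i + 1) • m, ?_⟩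
  induction k with
  | zero => simp [E]
  | succ k ih =>
    have h1 : E y (2 * (k + 1) + 1) m = E y (2 * k + 1) m + y ^ (2 * k + 1) • m + y ^ (2 * k + 2) • m := by
      rw [E, show 2 * (k + 1) + 1 = 2 * k + 1 + 1 + 1 by ring, Finset.sum_range_succ, Finset.sum_range_succ]
      rfl
    rw [h1, ih, Finset.sum_range_succ, smul_add, ← mul_smul y, ← pow_succ']
    abel

theorem exists_of_E (two : ∀ m : M, m + m = 0) {y : Γ} {r : ℕ} (hr : r % 2 = 1) {m : M} (hm : E y r m = 0) :
    ∃ n, m = y • n + n := by
  obtain ⟨n, hn⟩ := E_split y (r / 2) m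
  rw [show 2 * (r / 2) + 1 = r by omega, hm] at hn
  refine ⟨n, ?_⟩
  have h1 : m + (m + (y • n + n)) = m + 0 := by rw [← hn]
  rw [← add_assoc, two, zero_add, add_zero] at h1
  exact h1.symm

theorem E_pow {y : Γ} {r : ℕ} (h : ∀ m : M, y ^ r • m = m) (i : ℕ) (m : M) : E y r (y ^ i • m) = E y r m := by
  induction i with
  | zero => simp
  | succ i ih => rw [pow_succ', mul_smul, E_smul h, ih]

/-- a normal subgroup of odd prime order -/
structure Nrm (y : Γ) (r : ℕ) : Prop where
  prime : r.Prime
  odd : r ≠ 2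
  ord : orderOf y = r
  norm : ∀ g : Γ, g * y * g⁻¹ ∈ zpowers y

namespace Nrm

variable {y : Γ} {r : ℕ} (hy : Nrm y r)
include hy

theorem r_odd : r % 2 = 1 := by
  rcases hy.prime.eq_two_or_odd with h | h
  · exact absurd h hy.odd
  · exact h

theorem pow_r : y ^ r = 1 := by rw [← hy.ord, pow_orderOf_eq_one]

theorem y_pow (m : M) : y ^ r • m = m := by rw [hy.pow_r, one_smul]

theorem y_ne : y ≠ 1 := by
  intro h
  have := hy.ord
  rw [h, orderOf_one] at this
  exact hy.prime.one_lt.ne this

theorem exists_pow (g : Γ) : ∃ k : ℕ, g * y * g⁻¹ = y ^ k := by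
  have h1 : IsOfFinOrder y := orderOf_pos_iff.1 (by rw [hy.ord]; exact hy.prime.pos)
  have h2 := hy.norm g
  rw [← h1.mem_powers_iff_mem_zpowers, Submonoid.mem_powers_iff] at h2
  obtain ⟨k, hk⟩ := h2
  exact ⟨k, hk.symm⟩

theorem E_smul_eq_zero (two : ∀ m : M, m + m = 0) (g : Γ) {m : M} (hm : E y r m = 0) : E y r (g • m) = 0 := by
  obtain ⟨n, rfl⟩ := exists_of_E two hy.r_odd hm
  obtain ⟨k, hk⟩ := hy.exists_pow g
  have h1 : g • (y • n + n) = y ^ k • (g • n) + g • n := by
    rw [smul_add, ← mul_smul, ← mul_smul, ← hk]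
    congr 2
    group
  rw [h1, E_add, E_pow hy.y_pow, two]

theorem smul_fix (g : Γ) {m : M} (hm : y • m = m) : y • g • m = g • m := by
  obtain ⟨k, hk⟩ := hy.exists_pow g⁻¹
  have h1 : y * g = g * y ^ k := by rw [← hk]; group
  rw [← mul_smul, h1, mul_smul, pow_fix hm]

/-- `E` is the projection to the fixed points -/
theorem E_proj (m : M) : y • E y r m = E y r m := smul_E hy.y_pow m

theorem E_self (two : ∀ m : M, m + m = 0) (m : M) : E y r (m + E y r m) = 0 := by
  rw [E_add, E_fix two hy.r_odd (hy.E_proj m), two]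

end Nrm

variable {f : M → M → ZMod 2} {T A : Subgroup Γ} {H D : AddSubgroup M} {l : M}

/-- an `A`-invariant subgroup not contained in `H` is large -/
theorem Lin.card_ge [Finite M] [Finite Γ] (h : Lin f T A H D l) {N : AddSubgroup M} (hN : ∀ a ∈ A, ∀ x ∈ N, a • x ∈ N)
    (hx : ∃ x ∈ N, x ∉ H) : 2 * (Nat.card A * Nat.card (N ⊓ D : AddSubgroup M)) ≤ Nat.card N := by
  obtain ⟨x, hxN, hx⟩ := hx
  -- injective map `Bool × (A × (N ∩ D)) → N`
  let F : Bool × (A × (N ⊓ D : AddSubgroup M)) → N := fun p =>
    ⟨(if p.1 then x else 0) + (((p.2.1 : Γ) • x + x) + p.2.2.1), by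
      refine N.add_mem ?_ (N.add_mem (N.add_mem (hN _ p.2.1.2 x hxN) hxN) p.2.2.2.1)
      split
      · exact hxN
      · exact N.zero_mem⟩
  have hF : Function.Injective F := by
    rintro ⟨i, a, d⟩ ⟨j, b, e⟩ heq
    have heq' : (if i then x else 0) + (((a : Γ) • x + x) + d.1) =
      (if j then x else 0) + (((b : Γ) • x + x) + e.1) := congrArg Subtype.val heq
    have hH : ∀ (a : A) (d : (N ⊓ D : AddSubgroup M)), ((a : Γ) • x + x) + d.1 ∈ H := fun a d =>
      H.add_mem (h.hb1 x a a.2) (h.D_le d.2.2)
    have hij : i = j := by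
      cases i <;> cases j
      · rfl
      · exfalso
        simp only [Bool.false_eq_true, if_false, if_true, zero_add] at heq'
        have h1 := hH a d
        rw [heq'] at h1
        exact hx ((H.add_mem_cancel_right (hH b e)).1 h1)
      · exfalso
        simp only [Bool.false_eq_true, if_false, if_true, zero_add] at heq'
        have h1 := hH b e
        rw [← heq'] at h1
        exact hx ((H.add_mem_cancel_right (hH a d)).1 h1)
      · rfl
    subst hij
    have h1 := add_left_cancel heq'
    -- `[x,a] + [x,b] ∈ D`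
    have h2 : ((a : Γ) • x + x) + ((b : Γ) • x + x) ∈ D := by
      have h3 : ((a : Γ) • x + x) + ((b : Γ) • x + x) = d.1 + e.1 := by
        have h4 : ((a : Γ) • x + x) = ((b : Γ) • x + x) + e.1 + d.1 := by
          rw [← h1, h.add_right]
        rw [h4]
        have : ((b : Γ) • x + x) + e.1 + d.1 + ((b : Γ) • x + x) =
          (((b : Γ) • x + x) + ((b : Γ) • x + x)) + (d.1 + e.1) := by abel
        rw [this, h.two, zero_add]
      rw [h3]
      exact D.add_mem d.2.2 e.2.2
    have hab : a = b := by
      have h3 : ((a : Γ) * b) • x + x ∈ D := by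
        have h4 : ((a : Γ) * b) • x + x = ((a : Γ) • ((b : Γ) • x + x) + ((b : Γ) • x + x)) +
            (((a : Γ) • x + x) + ((b : Γ) • x + x)) := by
          rw [mul_smul, smul_add]
          have : (a : Γ) • (b : Γ) • x + (a : Γ) • x + ((b : Γ) • x + x) + ((a : Γ) • x + x + ((b : Γ) • x + x)) =
            (a : Γ) • (b : Γ) • x + x + ((a : Γ) • x + (a : Γ) • x) + ((b : Γ) • x + (b : Γ) • x) + (x + x) := by abel
          rw [this, h.two, h.two, h.two, add_zero, add_zero, add_zero]
        rw [h4]
        exact D.add_mem (h.hb2 _ (h.hb1 x b b.2) a a.2) h2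
      have h4 : (a : Γ) * b = 1 := by
        by_contra hne
        exact h.ha x hx _ (A.mul_mem a.2 b.2) hne h3
      have h5 : (b : Γ)⁻¹ = b := inv_eq_of_mul_eq_one_left (h.inv b b.2)
      apply Subtype.ext
      rw [← h5]
      exact eq_inv_of_mul_eq_one_left h4
    subst hab
    have h3 : d.1 = e.1 := add_left_cancel h1
    rw [Subtype.ext h3]
  have h1 := Nat.card_le_card_of_injective F hF
  rw [Nat.card_prod, Nat.card_prod, Nat.card_eq_fintype_card (α := Bool), Fintype.card_bool] at h1
  exact h1

theorem Lin.card_le [Finite M] (h : Lin f T A H D l) : Nat.card M ≤ 2 * (Nat.card D * Nat.card A) := by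
  obtain ⟨x, hx⟩ := h.H_ne
  let F : Bool × H → M := fun p => (if p.1 then x else 0) + p.2.1
  have hF : Function.Surjective F := by
    intro m
    by_cases hm : m ∈ H
    · exact ⟨(false, ⟨m, hm⟩), by simp [F]⟩
    · exact ⟨(true, ⟨x + m, h.H_two _ _ hx hm⟩), by simp [F, h.add_left]⟩
  have h1 := Nat.card_le_card_of_surjective F hF
  rw [Nat.card_prod, Nat.card_eq_fintype_card (α := Bool), Fintype.card_bool, h.card_H] at h1
  exact h1

/-- `[M,y]` -/
def Ma (y : Γ) (r : ℕ) : AddSubgroup M where
  carrier := {m | E y r m = 0}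
  zero_mem' := E_zero
  add_mem' := fun {a b} ha hb => by
    change E y r (a + b) = 0
    rw [E_add, show E y r a = 0 from ha, show E y r b = 0 from hb, add_zero]
  neg_mem' := fun {a} ha => by
    change E y r (-a) = 0
    have h1 : E y r (-a + a) = 0 := by rw [neg_add_cancel, E_zero]
    rw [E_add, show E y r a = 0 from ha, add_zero] at h1
    exact h1

/-- `C_M(y)` -/
def Mb (y : Γ) : AddSubgroup M where
  carrier := {m | y • m = m}
  zero_mem' := smul_zero y
  add_mem' := fun {a b} ha hb => by
    change y • (a + b) = a + b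
    rw [smul_add, show y • a = a from ha, show y • b = b from hb]
  neg_mem' := fun {a} ha => by
    change y • (-a) = -a
    rw [smul_neg, show y • a = a from ha]

theorem mem_Ma {y : Γ} {r : ℕ} {m : M} : m ∈ (Ma y r : AddSubgroup M) ↔ E y r m = 0 := Iff.rfl

theorem mem_Mb {y : Γ} {m : M} : m ∈ (Mb y : AddSubgroup M) ↔ y • m = m := Iff.rfl

/-- (1.1) a normal subgroup `⟨y⟩` of odd prime order acts fixed point freely -/
theorem Lin.fpf [Finite M] [Finite Γ] (h : Lin f T A H D l) {y : Γ} {r : ℕ} (hy : Nrm y r) {m : M} (hm : y • m = m) :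
    m = 0 := by
  have hMa : ∀ g : Γ, ∀ x ∈ (Ma y r : AddSubgroup M), g • x ∈ (Ma y r : AddSubgroup M) := fun g x hx =>
    hy.E_smul_eq_zero h.two g hx
  have hMb : ∀ g : Γ, ∀ x ∈ (Mb y : AddSubgroup M), g • x ∈ (Mb y : AddSubgroup M) := fun g x hx => hy.smul_fix g hx
  have hint : ∀ x : M, x ∈ (Ma y r : AddSubgroup M) → x ∈ (Mb y : AddSubgroup M) → x = 0 := by
    intro x hx hx'
    rw [← E_fix h.two hy.r_odd (mem_Mb.1 hx')]
    exact hx
  have hdec : ∀ x : M, x + E y r x ∈ (Ma y r : AddSubgroup M) ∧ E y r x ∈ (Mb y : AddSubgroup M) := fun x =>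
    ⟨hy.E_self h.two x, hy.E_proj x⟩
  have hsum : ∀ x : M, x = (x + E y r x) + E y r x := fun x => (h.add_right _ _).symm
  by_cases hb : (Mb y : AddSubgroup M) ≤ H
  · -- `C_M(y) ≤ rad f`
    have h1 : ∀ x ∈ (Mb y : AddSubgroup M), ∀ a ∈ A, a • x = x := fun x hx =>
      h.radA x (h.rad_of_le fun g => hb (hMb g x hx))
    have h2 : l ∈ (Ma y r : AddSubgroup M) := by
      apply h.l_mem_of_comm
      intro a ha x
      have h3 : a • x + x = a • (x + E y r x) + (x + E y r x) := by
        rw [smul_add, h1 _ (hdec x).2 a ha]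
        have : a • x + E y r x + (x + E y r x) = a • x + x + (E y r x + E y r x) := by abel
        rw [this, h.two, add_zero]
      rw [h3]
      exact AddSubgroup.add_mem _ (hMa a _ (hdec x).1) (hdec x).1
    have h3 := h.gen _ h2 hMa
    exact hint m (by rw [h3]; trivial) hm
  · exfalso
    by_cases ha : (Ma y r : AddSubgroup M) ≤ H
    · have h1 : ∀ x ∈ (Ma y r : AddSubgroup M), ∀ a ∈ A, a • x = x := fun x hx =>
        h.radA x (h.rad_of_le fun g => ha (hMa g x hx))
      have h2 : l ∈ (Mb y : AddSubgroup M) := by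
        apply h.l_mem_of_comm
        intro a ha x
        have h3 : a • x + x = a • (E y r x) + E y r x := by
          conv_lhs => rw [hsum x]
          rw [smul_add, h1 _ (hdec x).1 a ha]
          have : x + E y r x + a • E y r x + (x + E y r x + E y r x) =
            a • E y r x + E y r x + ((x + E y r x) + (x + E y r x)) := by abel
          rw [this, h.two, add_zero]
        rw [h3]
        exact AddSubgroup.add_mem _ (hMb a _ (hdec x).2) (hdec x).2
      have h3 := h.gen _ h2 hMb
      apply hy.y_ne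
      apply h.faith
      intro x
      have : x ∈ (Mb y : AddSubgroup M) := by rw [h3]; trivial
      exact this
    · -- both are outside `H`
      rw [SetLike.le_def] at ha hb
      push Not at ha hb
      have c1 := h.card_ge (fun a _ => hMa a) ha
      have c2 := h.card_ge (fun a _ => hMb a) hb
      set α := Nat.card A with hα
      set p := Nat.card ((Ma y r : AddSubgroup M) ⊓ D : AddSubgroup M) with hp
      set q := Nat.card ((Mb y : AddSubgroup M) ⊓ D : AddSubgroup M) with hq
      have hp0 : 0 < p := Nat.card_pos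
      have hq0 : 0 < q := Nat.card_pos
      have hα0 : 4 ≤ α := h.four
      have c3 : Nat.card (Ma y r : AddSubgroup M) * Nat.card (Mb y : AddSubgroup M) ≤ Nat.card M := by
        rw [← Nat.card_prod]
        refine Nat.card_le_card_of_injective (fun w : ↥(Ma y r : AddSubgroup M) × ↥(Mb y : AddSubgroup M) =>
          w.1.1 + w.2.1) ?_
        rintro ⟨u, v⟩ ⟨u', v'⟩ huv
        change u.1 + v.1 = u'.1 + v'.1 at huv
        have h1 : u.1 + u'.1 = v.1 + v'.1 := by
          have h2 : u.1 = u'.1 + v'.1 + v.1 := by rw [← huv, h.add_right]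
          rw [h2]
          have : u'.1 + v'.1 + v.1 + u'.1 = (u'.1 + u'.1) + (v.1 + v'.1) := by abel
          rw [this, h.two, zero_add]
        have h2 : u.1 + u'.1 = 0 := hint _ (AddSubgroup.add_mem _ u.2 u'.2)
          (by rw [h1]; exact AddSubgroup.add_mem _ v.2 v'.2)
        have h3 : v.1 + v'.1 = 0 := by rw [← h1, h2]
        exact Prod.ext (Subtype.ext (h.eq_of_add h2)) (Subtype.ext (h.eq_of_add h3))
      have c4 := h.card_le
      have c5 := h.card_D
      have c6 : (2 * (α * p)) * (2 * (α * q)) ≤ 2 * (Nat.card D * α) := (Nat.mul_le_mul c1 c2).trans (c3.trans c4)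
      have c7 : 2 * (α * (p * q)) ≤ Nat.card D := by
        have h8 : α * (2 * (2 * (α * (p * q)))) ≤ α * (2 * Nat.card D) := by nlinarith
        have h9 := Nat.le_of_mul_le_mul_left h8 (by omega)
        omega
      have c8 : p * q ≤ 1 := by
        have h8 : (2 * α) * (p * q) ≤ (2 * α) * 1 := by nlinarith
        exact Nat.le_of_mul_le_mul_left h8 (by omega)
      have c9 : 8 ≤ Nat.card D := by
        have h8 : 0 < p * q := Nat.mul_pos hp0 hq0
        have h9 : p * q = 1 := by omega
        rw [h9] at c7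
        omega
      have c10 : p = 1 ∧ q = 1 := by
        have h8 : 0 < p * q := Nat.mul_pos hp0 hq0
        exact mul_eq_one.1 (show p * q = 1 by omega)
      have ta : ∀ x ∈ (Ma y r : AddSubgroup M), x ∈ D → x = 0 := by
        intro x hx hxD
        have h8 : ((Ma y r : AddSubgroup M) ⊓ D : AddSubgroup M) = ⊥ := AddSubgroup.card_eq_one.1 c10.1
        have h9 : x ∈ ((Ma y r : AddSubgroup M) ⊓ D : AddSubgroup M) := ⟨hx, hxD⟩
        rwa [h8, AddSubgroup.mem_bot] at h9
      have tb : ∀ x ∈ (Mb y : AddSubgroup M), x ∈ D → x = 0 := by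
        intro x hx hxD
        have h8 : ((Mb y : AddSubgroup M) ⊓ D : AddSubgroup M) = ⊥ := AddSubgroup.card_eq_one.1 c10.2
        have h9 : x ∈ ((Mb y : AddSubgroup M) ⊓ D : AddSubgroup M) := ⟨hx, hxD⟩
        rwa [h8, AddSubgroup.mem_bot] at h9
      have ca : ∀ x ∈ (Ma y r : AddSubgroup M), x ∈ H → ∀ a ∈ A, a • x = x := fun x hx hxH a haA =>
        h.eq_of_add (ta _ (AddSubgroup.add_mem _ (hMa a x hx) hx) (h.hb2 x hxH a haA))
      have cb : ∀ x ∈ (Mb y : AddSubgroup M), x ∈ H → ∀ a ∈ A, a • x = x := fun x hx hxH a haA =>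
        h.eq_of_add (tb _ (AddSubgroup.add_mem _ (hMb a x hx) hx) (h.hb2 x hxH a haA))
      -- elements of `D` with component in `H`
      have key : ∀ d ∈ D, d + E y r d ∈ H → d = 0 ∨ d = l := by
        intro d hd hdH
        apply h.hd d hd
        intro a haA
        have h8 : E y r d ∈ H := by
          have := H.add_mem (h.D_le hd) hdH
          rwa [h.add_left] at this
        conv_lhs => rw [hsum d]
        rw [smul_add, ca _ (hdec d).1 hdH a haA, cb _ (hdec d).2 h8 a haA, ← hsum]
      have hDle : Nat.card D ≤ 4 := by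
        have h8 : ∃ e : M, (D : Set M) ⊆ {0, l, e, e + l} := by
          by_cases hall : ∀ d ∈ D, d + E y r d ∈ H
          · exact ⟨0, fun d hd => by
              rcases key d hd (hall d hd) with h9 | h9 <;> simp [h9]⟩
          · push Not at hall
            obtain ⟨e, he, heH⟩ := hall
            refine ⟨e, fun d hd => ?_⟩
            by_cases h9 : d + E y r d ∈ H
            · rcases key d hd h9 with h10 | h10 <;> simp [h10]
            · have h10 : (d + e) + E y r (d + e) ∈ H := by
                rw [E_add]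
                have : d + e + (E y r d + E y r e) = (d + E y r d) + (e + E y r e) := by abel
                rw [this]
                exact h.H_two _ _ h9 heH
              have h11 : d = e + (d + e) := by rw [add_comm d e, h.add_left]
              rcases key _ (D.add_mem hd he) h10 with h12 | h12
              · rw [h12, add_zero] at h11
                simp [h11]
              · rw [h12] at h11
                simp [h11]
        obtain ⟨e, he⟩ := h8
        have h9 := Set.ncard_le_ncard he (Set.toFinite _)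
        have h10 : (D : Set M).ncard = Nat.card D := rfl
        have h11 := Set.ncard_insert_le (0 : M) {l, e, e + l}
        have h12 := Set.ncard_insert_le l {e, e + l}
        have h13 := Set.ncard_insert_le e {e + l}
        have h14 := Set.ncard_singleton (e + l)
        omega
      omega

end Cfsg.Agent.OddCyclic.BTwoAdd
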