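import Cfsg.Agent.OddCyclic.BTwoAdd.FixPt

/-!
# (1.2), (1.3): normal subgroups of odd prime order have order 3 and are not centralized by `A`
-/

set_option autoImplicit false

namespace Cfsg.Agent.OddCyclic.BTwoAdd

open Subgroup Cfsg.Agent.OddCyclic.T1Defs Cfsg.Agent.MinSimple Cfsg.Agent.MinSimple.BTwoMod

variable {M : Type*} [AddCommGroup M] {Γ : Type*} [Group Γ] [DistribMulAction Γ M]

variable {f : M → M → ZMod 2} {T A : Subgroup Γ} {H D : AddSubgroup M} {l : M}

theorem smul_pow_comm {y w : Γ} (hw : w * y = y * w) (i : ℕ) (m : M) : w • y ^ i • m = y ^ i • w • m := by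
  have h1 : w * y ^ i = y ^ i * w := (Commute.pow_right hw i).eq
  rw [← mul_smul, h1, mul_smul]

/-- two different elements `≠ 1` of `A` -/
theorem Lin.exists_two [Finite Γ] (h : Lin f T A H D l) : ∃ a ∈ A, ∃ b ∈ A, a ≠ 1 ∧ b ≠ 1 ∧ a * b ≠ 1 := by
  have h4 := h.four
  obtain ⟨a, ha, ha1⟩ : ∃ a ∈ A, a ≠ 1 := by
    by_contra hcon
    push Not at hcon
    have : A = ⊥ := (eq_bot_iff_forall A).2 hcon
    rw [this, card_bot] at h4
    omega
  obtain ⟨b, hb, hb1, hba⟩ : ∃ b ∈ A, b ≠ 1 ∧ b ≠ a := by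
    by_contra hcon
    push Not at hcon
    have h5 : (A : Set Γ) ⊆ {1, a} := by
      intro b hb
      by_cases hb1 : b = 1
      · exact Or.inl hb1
      · exact Or.inr (hcon b hb hb1)
    have h6 := Set.ncard_le_ncard h5 (Set.toFinite _)
    have h7 : (A : Set Γ).ncard = Nat.card A := rfl
    have h8 := Set.ncard_insert_le (1 : Γ) {a}
    rw [Set.ncard_singleton] at h8
    omega
  refine ⟨a, ha, b, hb, ha1, hb1, fun h7 => hba ?_⟩
  have h8 : a⁻¹ = a := inv_eq_of_mul_eq_one_left (h.inv a ha)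
  rw [← h8]
  exact (inv_eq_of_mul_eq_one_right h7).symm

/-- (1.2) `A` does not centralize `y` -/
theorem Lin.not_comm [Finite M] [Finite Γ] (h : Lin f T A H D l) {y : Γ} {r : ℕ} (hy : Nrm y r) :
    ∃ a ∈ A, a * y ≠ y * a := by
  by_contra hcon
  push Not at hcon
  have hfp : ∀ m : M, y • m = m → m = 0 := fun m hm => h.fpf hy hm
  have hyl : y • l ≠ l := fun h1 => h.l_ne (hfp l h1)
  have hfixD : ∀ v ∈ D, (∀ a ∈ A, a • v = v) → v = 0 ∨ v = l := h.hd
  have hyD : ∀ v ∈ D, y • v ∈ D → (∀ a ∈ A, a • v = v) → v = 0 := by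
    intro v hv hyv hfix
    rcases h.hd v hv hfix with h1 | h1
    · exact h1
    · exfalso
      have h2 : ∀ a ∈ A, a • y • v = y • v := fun a ha => by
        rw [← mul_smul, hcon a ha, mul_smul, hfix a ha]
      rcases h.hd _ hyv h2 with h3 | h3
      · rw [smul_eq_zero_iff_eq] at h3
        rw [h3] at h1
        exact h.l_ne h1.symm
      · rw [h1] at h3
        exact hyl h3
  -- elements of `D` whose `y`-orbit is in `D`
  have hP : ∀ v : M, (∀ i : ℕ, y ^ i • v ∈ D) → v = 0 := by
    intro v hv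
    have hfix : ∀ w ∈ A, w • v = v := by
      intro w hw
      rcases h.hb3 v (by simpa using hv 0) w hw with h1 | h1
      · exact h.eq_of_add h1
      · exfalso
        have h2 : w • (y • v) + y • v = y • l := by
          rw [← h1, smul_add, ← mul_smul w, hcon w hw, mul_smul]
        rcases h.hb3 _ (by simpa using hv 1) w hw with h3 | h3
        · rw [h3] at h2
          exact h.l_ne ((smul_eq_zero_iff_eq y).1 h2.symm)
        · rw [h3] at h2
          exact hyl h2.symm
    exact hyD v (by simpa using hv 0) (by simpa using hv 1) hfix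
  -- `A` is quadratic
  have hquad : ∀ a ∈ A, ∀ b ∈ A, ∀ x : M, b • (a • x + x) = a • x + x := by
    intro a ha b hb x
    apply h.eq_of_add
    apply hP
    intro i
    have h1 : y ^ i • (b • (a • x + x) + (a • x + x)) =
        b • (a • (y ^ i • x) + y ^ i • x) + (a • (y ^ i • x) + y ^ i • x) := by
      rw [smul_pow_comm (hcon a ha), ← smul_add, smul_pow_comm (hcon b hb), ← smul_add]
    rw [h1]
    exact h.hb2 _ (h.hb1 _ a ha) b hb
  -- `[H,A] ≤ ⟨l⟩`
  have hH : ∀ x ∈ H, ∀ a ∈ A, a • x + x = 0 ∨ a • x + x = l := fun x hx a ha =>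
    h.hd _ (h.hb2 x hx a ha) fun b hb => hquad a ha b hb x
  -- every element of `H` is fixed by some `a ≠ 1`
  have hfixed : ∀ x ∈ H, ∃ a ∈ A, a ≠ 1 ∧ a • x = x := by
    intro x hx
    obtain ⟨a, ha, b, hb, ha1, hb1, hab⟩ := h.exists_two
    rcases hH x hx a ha with h1 | h1
    · exact ⟨a, ha, ha1, h.eq_of_add h1⟩
    rcases hH x hx b hb with h2 | h2
    · exact ⟨b, hb, hb1, h.eq_of_add h2⟩
    refine ⟨a * b, A.mul_mem ha hb, hab, h.eq_of_add ?_⟩
    have h3 := hquad b hb a ha x
    rw [smul_add] at h3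
    have h4 : a • b • x = (b • x + x) + a • x := by rw [← h3, h.add_right]
    rw [mul_smul, h4]
    have : b • x + x + a • x + x = (b • x + x) + (a • x + x) := by abel
    rw [this, h1, h2, h.two]
  have hyH : ∀ x ∈ H, y • x ∈ H := by
    intro x hx
    obtain ⟨a, ha, ha1, hax⟩ := hfixed x hx
    refine Inv.mem_H_of_fix h.toData ha ha1 ?_
    rw [← mul_smul, hcon a ha, mul_smul, hax]
  have hyiH : ∀ i : ℕ, ∀ x ∈ H, y ^ i • x ∈ H := by
    intro i
    induction i with
    | zero => intro x hx; simpa using hx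
    | succ i ih => intro x hx; rw [pow_succ', mul_smul]; exact hyH _ (ih x hx)
  obtain ⟨x, hx⟩ := h.H_ne
  have hyx : ∀ i : ℕ, i ≤ r → y ^ i • x ∉ H := by
    intro i hi h1
    apply hx
    have h2 := hyiH (r - i) _ h1
    rwa [← mul_smul, ← pow_add, Nat.sub_add_cancel hi, hy.y_pow] at h2
  -- the sum of an odd number of elements outside `H`
  have hsum : ∀ k : ℕ, 2 * k + 1 ≤ r → E y (2 * k + 1) x ∉ H := by
    intro k
    induction k with
    | zero => intro _; simpa [E] using hx
    | succ k ih =>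
      intro hk
      have h1 : E y (2 * (k + 1) + 1) x = E y (2 * k + 1) x + (y ^ (2 * k + 1) • x + y ^ (2 * k + 2) • x) := by
        rw [E, show 2 * (k + 1) + 1 = 2 * k + 1 + 1 + 1 by ring, Finset.sum_range_succ, Finset.sum_range_succ, add_assoc]
        rfl
      rw [h1]
      intro h2
      have h3 := h.H_two _ _ (hyx (2 * k + 1) (by omega)) (hyx (2 * k + 2) (by omega))
      exact ih (by omega) ((H.add_mem_cancel_right h3).1 h2)
  have hr := hy.r_odd
  have h1 := hsum (r / 2) (by omega)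
  rw [show 2 * (r / 2) + 1 = r by omega] at h1
  have h2 : E y r x = 0 := hfp _ (hy.E_proj x)
  rw [h2] at h1
  exact h1 H.zero_mem

/-- involutions centralize or invert `y` -/
theorem Nrm.comm_or_inv {y : Γ} {r : ℕ} (hy : Nrm y r) {w : Γ} (hw : w * w = 1) :
    w * y = y * w ∨ y * w * y = w := by
  obtain ⟨k, hk⟩ := hy.exists_pow w
  have h1 : w⁻¹ = w := inv_eq_of_mul_eq_one_left hw
  have hk' : ∀ n : ℕ, w * y ^ n * w⁻¹ = (y ^ k) ^ n := by
    intro n
    rw [← hk, conj_pow]
  have h2 : y ^ (k * k) = y := by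
    rw [pow_mul, ← hk' k, ← hk]
    have : w * (w * y * w⁻¹) * w⁻¹ = (w * w) * y * (w * w)⁻¹ := by group
    rw [this, hw, one_mul, inv_one, mul_one]
  have h3 : y ^ ((k : ℤ) * k - 1) = 1 := by
    rw [zpow_sub, zpow_one, ← Nat.cast_mul, zpow_natCast, h2, mul_inv_cancel]
  have h4 : (r : ℤ) ∣ ((k : ℤ) - 1) * (k + 1) := by
    have h5 := orderOf_dvd_iff_zpow_eq_one.2 h3
    rw [hy.ord] at h5
    have : ((k : ℤ) - 1) * (k + 1) = (k : ℤ) * k - 1 := by ring
    rwa [this]
  rcases (Nat.prime_iff_prime_int.1 hy.prime).dvd_or_dvd h4 with h5 | h5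
  · left
    have h6 : y ^ ((k : ℤ) - 1) = 1 := by
      rw [← orderOf_dvd_iff_zpow_eq_one, hy.ord]
      exact h5
    rw [zpow_sub, zpow_one, zpow_natCast, mul_inv_eq_one] at h6
    rw [h6] at hk
    exact mul_inv_eq_iff_eq_mul.1 hk
  · right
    have h6 : y ^ ((k : ℤ) + 1) = 1 := by
      rw [← orderOf_dvd_iff_zpow_eq_one, hy.ord]
      exact h5
    rw [zpow_add, zpow_one, zpow_natCast] at h6
    have h7 : w * y = y ^ k * w := mul_inv_eq_iff_eq_mul.1 hk
    have h8 : y * y ^ k = 1 := by rw [← pow_succ', pow_succ]; exact h6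
    rw [mul_assoc, h7, ← mul_assoc, h8, one_mul]

/-- (1.3) if some `a ∈ A` inverts `y` and `1 ≠ b ∈ A` centralizes `y`, then `r = 3` -/
theorem Lin.r_eq_three [Finite M] [Finite Γ] (h : Lin f T A H D l) {y : Γ} {r : ℕ} (hy : Nrm y r) : r = 3 := by
  have hfp : ∀ m : M, y • m = m → m = 0 := fun m hm => h.fpf hy hm
  have hyl : y • l ≠ l := fun h1 => h.l_ne (hfp l h1)
  obtain ⟨a, ha, hay⟩ := h.not_comm hy
  have hinv : ∀ w ∈ A, w * y ≠ y * w → y * w * y = w := fun w hw hne => by
    rcases hy.comm_or_inv (h.inv w hw) with h1 | h1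
    · exact absurd h1 hne
    · exact h1
  -- the product of two elements not commuting with `y` commutes with `y`
  have hprod : ∀ w ∈ A, ∀ w' ∈ A, w * y ≠ y * w → w' * y ≠ y * w' → (w * w') * y = y * (w * w') := by
    intro w hw w' hw' h1 h2
    have h3 := hinv w hw h1
    have h4 := hinv w' hw' h2
    have h5 : w * w' * y = w * y⁻¹ * (y * w' * y) := by group
    have h6 : w * y⁻¹ * w' = (y * w * y) * y⁻¹ * w' := by rw [h3]
    rw [h5, h4, h6]; group
  -- an element `b ≠ 1` of `A` commuting with `y`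
  obtain ⟨b, hb, hb1, hby⟩ : ∃ b ∈ A, b ≠ 1 ∧ b * y = y * b := by
    obtain ⟨u, hu, v, hv, hu1, hv1, huv⟩ := h.exists_two
    by_cases h1 : u * y = y * u
    · exact ⟨u, hu, hu1, h1⟩
    by_cases h2 : v * y = y * v
    · exact ⟨v, hv, hv1, h2⟩
    · exact ⟨u * v, A.mul_mem hu hv, huv, hprod u hu v hv h1 h2⟩
  have hbl : ∀ b' ∈ A, b' * y = y * b' → b' • y • l = y • l := fun b' hb' hc => by
    rw [← mul_smul, hc, mul_smul, h.l_fix b' hb']
  have hH : y • l ∈ H := Inv.mem_H_of_fix h.toData hb hb1 (hbl b hb hby)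
  have hd := h.hb2 _ hH a ha
  have hB : ∀ b' ∈ A, b' * y = y * b' → b' • (a • y • l + y • l) = a • y • l + y • l := by
    intro b' hb' hc
    rw [smul_add, h.smul_comm' hb' ha, hbl b' hb' hc]
  have hfix : ∀ w ∈ A, w • (a • y • l + y • l) = a • y • l + y • l := by
    intro w hw
    by_cases hwB : w * y = y * w
    · exact hB w hw hwB
    · have h2 : w = (w * a) * a := by rw [mul_assoc, h.inv a ha, mul_one]
      rw [h2, mul_smul, h.smul_add_self ha, hB _ (A.mul_mem hw ha) (hprod w hw a ha hwB hay)]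
  have hinva : y • a • y • l = l := by
    rw [← mul_smul, ← mul_smul, hinv a ha hay, h.l_fix a ha]
  have hr := hy.r_odd
  rcases h.hd _ hd hfix with h2 | h2
  · exfalso
    have h3 : a • y • l = y • l := h.eq_of_add h2
    rw [h3] at hinva
    exact hyl (fix_of_sq hr hy.y_pow hinva)
  · have h3 : a • y • l = y • l + l := by
      have := h.add_right (a • y • l) (y • l)
      rw [h2] at this
      rw [← this, add_comm]
    rw [h3, smul_add] at hinva
    -- `y y l + y l = l`
    have h4 : y • y • l = y • l + l := by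
      have := h.add_right (y • y • l) (y • l)
      rw [hinva] at this
      rw [← this, add_comm]
    have h5 : y • y • y • l = l := by
      rw [h4, smul_add, h4, add_comm (y • l) l, h.add_right]
    have hl3 : y ^ 3 • l = l := by
      rw [pow_succ, pow_two, mul_smul, mul_smul, h5]
    by_contra h3'
    have h6 : orderOf (y ^ 3) = r := by
      rw [orderOf_pow, hy.ord]
      have h7 : Nat.gcd r 3 = 1 := (Nat.coprime_primes hy.prime Nat.prime_three).2 h3'
      rw [h7, Nat.div_one]
    -- `y` is a power of `y ^ 3`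
    have h7 : Nat.Coprime 3 r := (Nat.coprime_primes Nat.prime_three hy.prime).2 (Ne.symm h3')
    obtain ⟨u, hu⟩ : ∃ u v : ℕ, 3 * u = r * v + 1 := by
      have hr' : r % 3 = 1 ∨ r % 3 = 2 := by
        have : ¬ 3 ∣ r := fun hd => by
          have := Nat.Coprime.eq_one_of_dvd h7 hd
          omega
        omega
      rcases hr' with hr' | hr'
      · exact ⟨(r * 2 + 1) / 3, 2, by omega⟩
      · exact ⟨(r + 1) / 3, 1, by omega⟩
    obtain ⟨v, hv⟩ := hu
    have h8 : (y ^ 3) ^ u = y := by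
      rw [← pow_mul, hv, pow_add, pow_mul, hy.pow_r, one_pow, one_mul, pow_one]
    have h9 : ∀ n : ℕ, (y ^ 3) ^ n • l = l := by
      intro n
      induction n with
      | zero => simp
      | succ n ih => rw [pow_succ, mul_smul, hl3, ih]
    have h10 := h9 u
    rw [h8] at h10
    exact hyl h10

end Cfsg.Agent.OddCyclic.BTwoAdd
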